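import Mathlib.FieldTheory.IsSepClosed
import Mathlib.FieldTheory.Separable
import Mathlib.LinearAlgebra.FiniteDimensional.Basic
import Mathlib.LinearAlgebra.Dimension.Free
import Mathlib.RingTheory.Artinian.Module
import Mathlib.LinearAlgebra.Dimension.OrzechProperty
import Mathlib.Algebra.CharP.Frobenius

/-! Semilinear endomorphisms `φ (c • v) = c ^ q • φ v` over a separably closed field. -/

namespace Groth.Agent.SGA7IILib

open Polynomial

variable {k : Type*} [Field k] {V : Type*} [AddCommGroup V] [Module k V]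

theorem qlin_sum {φ : V →+ V} {q : ℕ} (hφ : ∀ (c : k) (v : V), φ (c • v) = c ^ q • φ v)
    {ι : Type*} (s : Finset ι) (c : ι → k) (v : ι → V) :
    φ (∑ i ∈ s, c i • v i) = ∑ i ∈ s, c i ^ q • φ (v i) := by
  simp [map_sum, hφ]

theorem qlin_iterate {φ : V →+ V} {q : ℕ} (hφ : ∀ (c : k) (v : V), φ (c • v) = c ^ q • φ v)
    (n : ℕ) (c : k) (v : V) : φ^[n] (c • v) = c ^ (q ^ n) • φ^[n] v := by
  induction n with
  | zero => simp
  | succ n ih =>
    rw [Function.iterate_succ_apply', Function.iterate_succ_apply', ih, hφ, ← pow_mul, ← pow_succ]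

theorem exists_root_ne_zero [IsSepClosed k] (P : k[X]) (hsep : P.Separable) (hdeg : 2 ≤ P.natDegree) :
    ∃ y, P.IsRoot y ∧ y ≠ 0 := by
  by_contra h
  push Not at h
  have h1 := (IsSepClosed.splits_of_separable P hsep).natDegree_eq_card_roots
  have h2 : P.roots ≤ {0} := by
    refine (Multiset.le_iff_subset (nodup_roots hsep)).2 fun y hy => ?_
    exact Multiset.mem_singleton.2 (h y (mem_roots'.1 hy).2)
  have h3 := Multiset.card_le_card h2
  simp at h3
  omega

/-- Auxiliary polynomials for the fixed vector equation. -/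
noncomputable def fixPoly (q : ℕ) (a : ℕ → k) : ℕ → k[X]
  | 0 => C (a 0) * X ^ q
  | i + 1 => fixPoly q a i ^ q + C (a (i + 1)) * X ^ q

theorem derivative_fixPoly {q : ℕ} (hq0 : (q : k) = 0) (a : ℕ → k) (i : ℕ) :
    derivative (fixPoly q a i) = 0 := by
  cases i <;> simp [fixPoly, derivative_pow, hq0]

theorem natDegree_fixPoly {q : ℕ} (hq2 : 2 ≤ q) (a : ℕ → k) :
    ∀ i, (fixPoly q a i = 0 ∧ ∀ l ≤ i, a l = 0) ∨ q ≤ (fixPoly q a i).natDegree := by
  intro i
  induction i with
  | zero =>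
    by_cases h : a 0 = 0
    · left; simp [fixPoly, h]
    · right; simp [fixPoly, natDegree_C_mul_X_pow q _ h]
  | succ i ih =>
    by_cases h : a (i + 1) = 0
    · rcases ih with ⟨h1, h2⟩ | h1
      · left
        refine ⟨by simp [fixPoly, h, h1, zero_pow (by omega : q ≠ 0)], fun l hl => ?_⟩
        rcases Nat.lt_or_ge l (i + 1) with hl' | hl'
        · exact h2 l (by omega)
        · rwa [show l = i + 1 by omega]
      · right
        simp only [fixPoly, h, map_zero, zero_mul, add_zero, natDegree_pow]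
        nlinarith
    · right
      rcases ih with ⟨h1, h2⟩ | h1
      · simp [fixPoly, h1, zero_pow (by omega : q ≠ 0), natDegree_C_mul_X_pow q _ h]
      · have hlt : (C (a (i + 1)) * X ^ q).natDegree < (fixPoly q a i ^ q).natDegree := by
          rw [natDegree_pow, natDegree_C_mul_X_pow q _ h]
          nlinarith
        rw [fixPoly, natDegree_add_eq_left_of_natDegree_lt hlt, natDegree_pow]
        nlinarith

theorem exists_fixed_ne_zero [IsSepClosed k] [FiniteDimensional k V] [Nontrivial V] {φ : V →+ V}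
    {q : ℕ} (hq0 : (q : k) = 0) (hq2 : 2 ≤ q) (hφ : ∀ (c : k) (v : V), φ (c • v) = c ^ q • φ v)
    (hinj : ∀ v, φ v = 0 → v = 0) : ∃ w : V, w ≠ 0 ∧ φ w = w := by
  classical
  obtain ⟨v, hv⟩ := exists_ne (0 : V)
  have hex : ∃ m, ¬ LinearIndependent k (fun i : Fin (m + 1) => φ^[(i : ℕ)] v) :=
    ⟨Module.finrank k V, fun h => by
      have := h.fintype_card_le_finrank
      simp at this⟩
  set m := Nat.find hex with hm_def
  have hm := Nat.find_spec hex
  have hli : LinearIndependent k (fun i : Fin m => φ^[(i : ℕ)] v) := by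
    rcases Nat.eq_zero_or_pos m with h0 | h0
    · have : IsEmpty (Fin m) := by rw [h0]; infer_instance
      exact linearIndependent_empty_type
    · obtain ⟨m', hm'⟩ := Nat.exists_eq_succ_of_ne_zero h0.ne'
      rw [hm']
      exact not_not.1 (Nat.find_min hex (show m' < m by omega))
  have hmem : φ^[m] v ∈ Submodule.span k (Set.range fun i : Fin m => φ^[(i : ℕ)] v) := by
    by_contra hc
    apply hm
    rw [← hm_def]
    refine linearIndependent_finSucc'.2 ⟨?_, ?_⟩
    · exact hli
    · exact hc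
  obtain ⟨c, hc⟩ := (Submodule.mem_span_range_iff_exists_fun k).1 hmem
  have hne : ∀ n, φ^[n] v ≠ 0 := by
    intro n
    induction n with
    | zero => exact hv
    | succ n ih =>
      rw [Function.iterate_succ_apply']
      exact fun h => ih (hinj _ h)
  have hmpos : 0 < m := by
    rcases Nat.eq_zero_or_pos m with h0 | h0
    · exfalso
      apply hne m
      rw [← hc]
      refine Finset.sum_eq_zero fun i _ => ?_
      exact absurd i.2 (by omega)
    · exact h0
  obtain ⟨l, hl⟩ := Nat.exists_eq_succ_of_ne_zero hmpos.ne'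
  let a : ℕ → k := fun i => if h : i < m then c ⟨i, h⟩ else 0
  have hc' : ∑ i ∈ Finset.range m, a i • φ^[i] v = φ^[m] v := by
    rw [← hc, ← Fin.sum_univ_eq_sum_range (fun i => a i • φ^[i] v) m]
    exact Finset.sum_congr rfl fun i _ => by simp [a]
  have ha : ∃ i ≤ l, a i ≠ 0 := by
    by_contra hcon
    push Not at hcon
    apply hne m
    rw [← hc']
    exact Finset.sum_eq_zero fun i hi => by rw [hcon i (by have := Finset.mem_range.1 hi; omega), zero_smul]
  have hdeg : q ≤ (fixPoly q a l).natDegree := by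
    rcases natDegree_fixPoly hq2 a l with h | h
    · obtain ⟨i, hi, hi'⟩ := ha
      exact absurd (h.2 i hi) hi'
    · exact h
  let P : k[X] := fixPoly q a l - X
  have hsep : P.Separable := by
    rw [separable_def]
    have : derivative P = -1 := by simp [P, derivative_fixPoly hq0 a l]
    rw [this]
    exact isCoprime_one_right.neg_right
  have hPdeg : 2 ≤ P.natDegree := by
    have : (X : k[X]).natDegree < (fixPoly q a l).natDegree := by rw [natDegree_X]; omega
    simp only [P]
    rw [natDegree_sub_eq_left_of_natDegree_lt this]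
    omega
  obtain ⟨y, hy, hy0⟩ := exists_root_ne_zero P hsep hPdeg
  have hyl : (fixPoly q a l).eval y = y := by
    simpa [P, IsRoot.def, sub_eq_zero] using hy
  let x : ℕ → k := fun i => (fixPoly q a i).eval y
  have hx0 : x 0 = a 0 * y ^ q := by simp [x, fixPoly]
  have hxs : ∀ i, x (i + 1) = x i ^ q + a (i + 1) * y ^ q := fun i => by simp [x, fixPoly]
  refine ⟨∑ i ∈ Finset.range m, x i • φ^[i] v, ?_, ?_⟩
  · intro h
    have h' : ∑ i : Fin m, x i • φ^[(i : ℕ)] v = 0 := by
      rw [← h, ← Fin.sum_univ_eq_sum_range (fun i => x i • φ^[i] v) m]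
    have := Fintype.linearIndependent_iff.1 hli _ h' ⟨l, by omega⟩
    exact hy0 (hyl ▸ this)
  · rw [qlin_sum hφ]
    simp only [← Function.iterate_succ_apply' φ]
    rw [hl, Finset.sum_range_succ, show x l = y from hyl]
    rw [Finset.sum_range_succ' (fun i => x i • φ^[i] v)]
    have e : φ^[l + 1] v = ∑ i ∈ Finset.range l, a (i + 1) • φ^[i + 1] v + a 0 • φ^[0] v := by
      rw [← Finset.sum_range_succ' (fun i => a i • φ^[i] v), show l + 1 = m from hl.symm, hc']
    simp only [Nat.succ_eq_add_one]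
    rw [e, smul_add, Finset.smul_sum, ← add_assoc, ← Finset.sum_add_distrib, hx0, smul_smul,
      mul_comm]
    congr 1
    refine Finset.sum_congr rfl fun i _ => ?_
    rw [hxs, add_smul, smul_smul, mul_comm (a (i + 1))]

theorem eq_zero_of_apply_eq_zero [FiniteDimensional k V] {φ : V →+ V} {q : ℕ} (hq : q ≠ 0)
    (hφ : ∀ (c : k) (v : V), φ (c • v) = c ^ q • φ v)
    (hss : Submodule.span k (Set.range φ) = ⊤) (v : V) (hv : φ v = 0) : v = 0 := by
  by_contra h0
  let b := Module.finBasis k V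
  have hsp : Submodule.span k (Set.range fun i => φ (b i)) = ⊤ := by
    rw [eq_top_iff, ← hss, Submodule.span_le]
    rintro _ ⟨w, rfl⟩
    rw [← b.sum_repr w, qlin_sum hφ]
    exact Submodule.sum_mem _ fun i _ => Submodule.smul_mem _ _ (Submodule.subset_span ⟨i, rfl⟩)
  have hli : LinearIndependent k (fun i => φ (b i)) :=
    linearIndependent_of_top_le_span_of_card_eq_finrank hsp.ge (by simp)
  rw [← b.sum_repr v, qlin_sum hφ] at hv
  apply h0
  rw [← b.sum_repr v]
  refine Finset.sum_eq_zero fun i _ => ?_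
  rw [pow_eq_zero_iff hq |>.1 (Fintype.linearIndependent_iff.1 hli _ hv i), zero_smul]

/-- In the span of fixed vectors `v ↦ v - φ v` is surjective. -/
theorem exists_sub_eq_of_mem_span [IsSepClosed k] {φ : V →+ V} {q : ℕ} (hq0 : (q : k) = 0)
    (hq2 : 2 ≤ q) (hφ : ∀ (c : k) (v : V), φ (c • v) = c ^ q • φ v)
    (u : V) (hu : u ∈ Submodule.span k {v : V | φ v = v}) :
    ∃ x ∈ Submodule.span k {v : V | φ v = v}, x - φ x = u := by
  obtain ⟨c, rfl⟩ := (Finsupp.mem_span_iff_linearCombination k _ u).1 hu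
  choose d hd using fun a : k => IsSepClosed.exists_root_C_mul_X_pow_add_C_mul_X_add_C (-1) 1 (-a) hq0 hq2 one_ne_zero
  refine ⟨∑ i ∈ c.support, d (c i) • (i : V), ?_, ?_⟩
  · exact Submodule.sum_mem _ fun i _ => Submodule.smul_mem _ _ (Submodule.subset_span i.2)
  · rw [qlin_sum hφ, ← Finset.sum_sub_distrib, Finsupp.linearCombination_apply, Finsupp.sum]
    refine Finset.sum_congr rfl fun i _ => ?_
    rw [show φ (i : V) = i from i.2, ← sub_smul]
    congr 1
    linear_combination hd (c i)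

theorem span_fixed_eq_top [IsSepClosed k] [FiniteDimensional k V] {φ : V →+ V} {q : ℕ}
    (hq0 : (q : k) = 0) (hq2 : 2 ≤ q) (hφ : ∀ (c : k) (v : V), φ (c • v) = c ^ q • φ v)
    (hss : Submodule.span k (Set.range φ) = ⊤) :
    Submodule.span k {v : V | φ v = v} = ⊤ := by
  set W := Submodule.span k {v : V | φ v = v} with hW
  have hWφ : W.toAddSubgroup ≤ W.toAddSubgroup.comap φ := by
    intro w hw
    refine Submodule.span_induction (p := fun w _ => φ w ∈ W) ?_ ?_ ?_ ?_ hw
    · intro x hx; rw [show φ x = x from hx]; exact Submodule.subset_span hx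
    · simp
    · intro x y _ _ hx hy; rw [map_add]; exact W.add_mem hx hy
    · intro a x _ hx; rw [hφ]; exact W.smul_mem _ hx
  by_contra hne
  haveI : Nontrivial (V ⧸ W) := Submodule.Quotient.nontrivial_iff.2 hne
  let ψ : V ⧸ W →+ V ⧸ W := QuotientAddGroup.map W.toAddSubgroup W.toAddSubgroup φ hWφ
  have hψmk : ∀ v : V, ψ (W.mkQ v) = W.mkQ (φ v) := fun v => rfl
  have hψ : ∀ (c : k) (x : V ⧸ W), ψ (c • x) = c ^ q • ψ x := by
    intro c x
    obtain ⟨v, rfl⟩ := Submodule.mkQ_surjective W x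
    rw [← map_smul, hψmk, hψmk, hφ, map_smul]
  have hψss : Submodule.span k (Set.range ψ) = ⊤ := by
    rw [eq_top_iff]
    calc ⊤ = Submodule.map W.mkQ (Submodule.span k (Set.range φ)) := by
          rw [hss, Submodule.map_top, Submodule.range_mkQ]
      _ ≤ _ := by
          rw [Submodule.map_span]
          refine Submodule.span_mono ?_
          rintro _ ⟨_, ⟨v, rfl⟩, rfl⟩
          exact ⟨W.mkQ v, hψmk v⟩
  obtain ⟨z, hz0, hz⟩ := exists_fixed_ne_zero hq0 hq2 hψ
    (eq_zero_of_apply_eq_zero (by omega) hψ hψss)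
  obtain ⟨v, rfl⟩ := Submodule.mkQ_surjective W z
  rw [hψmk] at hz
  have hu : φ v - v ∈ W := (Submodule.Quotient.eq W).1 hz
  obtain ⟨x, hx, hxu⟩ := exists_sub_eq_of_mem_span hq0 hq2 hφ _ hu
  apply hz0
  have : φ (v + x) = v + x := by
    rw [map_add, eq_comm, ← sub_eq_zero,
      show v + x - (φ v + φ x) = (x - φ x) - (φ v - v) by abel, hxu, sub_self]
  have hvW : v ∈ W := by
    simpa using W.sub_mem (Submodule.subset_span this) hx
  simpa using hvW

theorem exists_basis_fixed [IsSepClosed k] [FiniteDimensional k V] {φ : V →+ V} {q : ℕ}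
    (hq0 : (q : k) = 0) (hq2 : 2 ≤ q) (hφ : ∀ (c : k) (v : V), φ (c • v) = c ^ q • φ v)
    (hss : Submodule.span k (Set.range φ) = ⊤) :
    ∃ b : Module.Basis (Fin (Module.finrank k V)) k V, ∀ i, φ (b i) = b i := by
  obtain ⟨s, hs, hsp, hli⟩ := exists_linearIndependent k {v : V | φ v = v}
  rw [span_fixed_eq_top hq0 hq2 hφ hss] at hsp
  let b := Module.Basis.mk hli (by rw [Subtype.range_coe_subtype]; exact hsp.ge)
  have : Finite s := Module.Finite.finite_basis b
  have := Fintype.ofFinite s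
  refine ⟨b.reindex (Fintype.equivFinOfCardEq (Module.finrank_eq_card_basis b).symm), fun i => ?_⟩
  simp only [Module.Basis.reindex_apply, b, Module.Basis.mk_apply]
  exact hs (Subtype.coe_prop _)

theorem repr_iterate [FiniteDimensional k V] {φ : V →+ V} {q : ℕ}
    (hφ : ∀ (c : k) (v : V), φ (c • v) = c ^ q • φ v) {ι : Type*} [Fintype ι]
    (b : Module.Basis ι k V) (hb : ∀ i, φ (b i) = b i) (n : ℕ) (v : V) (i : ι) :
    b.repr (φ^[n] v) i = b.repr v i ^ (q ^ n) := by
  have e : φ^[n] v = ∑ j, b.repr v j ^ (q ^ n) • b j := by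
    induction n with
    | zero => simp [b.sum_repr]
    | succ n ih =>
      rw [Function.iterate_succ_apply', ih, qlin_sum hφ]
      simp [hb, ← pow_mul, pow_succ]
  rw [e, b.repr_sum_self]

/-- The semisimple part, together with a stabilisation index. -/
theorem exists_stable_span [FiniteDimensional k V] {φ : V →+ V} {q : ℕ}
    (hφ : ∀ (c : k) (v : V), φ (c • v) = c ^ q • φ v) :
    ∃ W : Submodule k V, W = ⨅ n : ℕ, Submodule.span k (Set.range (φ^[n + 1])) ∧
      (∃ N, ∀ v, φ^[N] v ∈ W) ∧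
      ∃ ψ : W →+ W, (∀ x, (ψ x : V) = φ x) ∧ (∀ (c : k) x, ψ (c • x) = c ^ q • ψ x) ∧
        Submodule.span k (Set.range ψ) = ⊤ := by
  let S : ℕ → Submodule k V := fun n => Submodule.span k (Set.range (φ^[n + 1]))
  have hanti : Antitone S := antitone_nat_of_succ_le fun n => Submodule.span_mono <| by
    rintro _ ⟨v, rfl⟩
    exact ⟨φ v, (Function.iterate_succ_apply φ (n + 1) v).symm⟩
  obtain ⟨N, hN⟩ := IsArtinian.monotone_stabilizes
    (⟨fun n => OrderDual.toDual (S n), fun a b h => hanti h⟩ : ℕ →o (Submodule k V)ᵒᵈ)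
  replace hN : ∀ m, N ≤ m → S N = S m := hN
  have hW : ⨅ n, S n = S N := le_antisymm (iInf_le _ _) (le_iInf fun n => by
    rcases le_total n N with h | h
    · exact hanti h
    · exact (hN n h).le)
  have hmap : ∀ x ∈ S N, φ x ∈ S (N + 1) := by
    intro x hx
    refine Submodule.span_induction (p := fun w _ => φ w ∈ S (N + 1)) ?_ ?_ ?_ ?_ hx
    · rintro _ ⟨v, rfl⟩
      exact Submodule.subset_span ⟨v, Function.iterate_succ_apply' φ (N + 1) v⟩
    · simp
    · intro x y _ _ hx hy; rw [map_add]; exact Submodule.add_mem _ hx hy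
    · intro a x _ hx; rw [hφ]; exact Submodule.smul_mem _ _ hx
  let ψ : S N →+ S N :=
    { toFun := fun x => ⟨φ x, (hN (N + 1) (by omega)).ge (hmap x x.2)⟩
      map_zero' := Subtype.ext (map_zero φ)
      map_add' := fun x y => Subtype.ext (map_add φ _ _) }
  refine ⟨S N, hW.symm, ⟨N + 1, fun v => Submodule.subset_span ⟨v, rfl⟩⟩, ψ, fun _ => rfl,
    fun c x => Subtype.ext (hφ c x), ?_⟩
  apply Submodule.map_injective_of_injective (S N).injective_subtype
  rw [Submodule.map_span, Submodule.map_subtype_top]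
  refine le_antisymm ?_ ?_
  · rw [Submodule.span_le]
    rintro _ ⟨_, ⟨x, rfl⟩, rfl⟩
    exact (ψ x).2
  · refine (hN (N + 1) (by omega)).trans_le (Submodule.span_mono ?_)
    rintro _ ⟨v, rfl⟩
    exact ⟨ψ ⟨φ^[N + 1] v, Submodule.subset_span ⟨v, rfl⟩⟩, ⟨_, rfl⟩,
      (Function.iterate_succ_apply' φ (N + 1) v).symm⟩

theorem surjective_sub [IsSepClosed k] [FiniteDimensional k V] {φ : V →+ V} {q : ℕ}
    (hq0 : (q : k) = 0) (hq2 : 2 ≤ q) (hφ : ∀ (c : k) (v : V), φ (c • v) = c ^ q • φ v) :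
    Function.Surjective (fun v : V => v - φ v) := by
  intro u
  obtain ⟨W, -, ⟨N, hN⟩, ψ, hψv, hψ, hψss⟩ := exists_stable_span hφ
  obtain ⟨x, -, hx⟩ := exists_sub_eq_of_mem_span hq0 hq2 hψ ⟨φ^[N] u, hN u⟩
    ((span_fixed_eq_top hq0 hq2 hψ hψss) ▸ Submodule.mem_top)
  refine ⟨(x : V) + ∑ i ∈ Finset.range N, φ^[i] u, ?_⟩
  have hx' : (x : V) - φ x = φ^[N] u := by
    rw [← hψv]; exact congrArg Subtype.val hx
  have hsum : ∑ i ∈ Finset.range N, φ^[i] u - φ (∑ i ∈ Finset.range N, φ^[i] u) = u - φ^[N] u := by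
    rw [map_sum, ← Finset.sum_sub_distrib]
    simp only [← Function.iterate_succ_apply' φ]
    exact Finset.sum_range_sub' (fun i => φ^[i] u) N
  simp only [map_add]
  calc (x : V) + ∑ i ∈ Finset.range N, φ^[i] u - (φ x + φ (∑ i ∈ Finset.range N, φ^[i] u))
      = ((x : V) - φ x) + (∑ i ∈ Finset.range N, φ^[i] u - φ (∑ i ∈ Finset.range N, φ^[i] u)) := by abel
    _ = u := by rw [hx', hsum]; abel

theorem q_facts (p : ℕ) [Fact p.Prime] [CharP k p] (r : ℕ) (hr : 0 < r) :
    ((p ^ r : ℕ) : k) = 0 ∧ 2 ≤ p ^ r := by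
  have hp := (Fact.out : p.Prime)
  exact ⟨by simp [CharP.cast_eq_zero, zero_pow hr.ne'], hp.two_le.trans (Nat.le_self_pow hr.ne' p)⟩

end Groth.Agent.SGA7IILib
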